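import Groth.Agent.SerreDual.Exist
import Groth.Agent.SerreDual.ExtLocFree
import Groth.Agent.SerreDual.ProjDualAll
import Groth.Agent.SerreDual.ExtShRep
import Groth.Agent.Coherent.TensorFinLoc
import Groth.Agent.Coherent.InternalHomAdj
import Groth.Agent.Coherent.Serre.NearSupport
import Groth.Agent.EulerLib.Additive
import Groth.Agent.CurveRR24.RR
import Groth.Agent.DCat.TensorAssoc

/-!
# Sums, sections and tensor products
-/

set_option autoImplicit false
set_option backward.isDefEq.respectTransparency false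
set_option linter.style.haveILetI false
set_option maxHeartbeats 1000000

universe u

open CategoryTheory CategoryTheory.Limits AlgebraicGeometry TopologicalSpace Opposite
open Groth.Agent.Coherent Groth.Agent.PicLib Groth.Agent.AmpleLib Groth.Agent.SerreDual

noncomputable section

namespace Groth.Agent.Quadric3

variable {X : Scheme.{u}}

/-- The symmetry is natural. -/
theorem comm_natural {E G : X.Modules} (g : E ⟶ G) (P : X.Modules) :
    ((DCoh.tensorBi (X := X)).map g).app P ≫ (AmpleLib.tensorComm G P).hom =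
      (AmpleLib.tensorComm E P).hom ≫ (tensE P).map g := by
  refine AmpleLib.hom_ext fun U a b => ?_
  show (AmpleLib.tensorComm G P).hom.app U ((((DCoh.tensorBi (X := X)).map g).app P).app U (tmul a b)) =
    (tE P g).app U ((AmpleLib.tensorComm E P).hom.app U (tmul a b))
  rw [show (((DCoh.tensorBi (X := X)).map g).app P).app U (tmul a b) = tmul (g.app U a) b from
      DCat.PullTensor.tensorBi_map_tmul g U a b]
  show (tensorSwap G P).app U (tmul (g.app U a) b) = (tE P g).app U ((tensorSwap E P).app U (tmul a b))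
  rw [show (tensorSwap G P).app U (tmul (g.app U a) b) = tmul b (g.app U a) from Bilin.desc_tmul _ U _ _,
    show (tensorSwap E P).app U (tmul a b) = tmul b a from Bilin.desc_tmul _ U _ _]
  exact (tensE_map_tmul P g U b a).symm

theorem sum_π_ι {n : ℕ} (M : X.Modules) :
    ∑ j, Sigma.π (fun _ : Fin n => M) j ≫ Sigma.ι (fun _ : Fin n => M) j = 𝟙 (∐ fun _ : Fin n => M) := by
  classical
  refine Sigma.hom_ext _ _ fun i => ?_
  rw [Preadditive.comp_sum, Category.comp_id, Finset.sum_eq_single i
    (fun j _ hj => by rw [Sigma.ι_π_of_ne_assoc _ hj.symm, zero_comp])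
    (fun h => absurd (Finset.mem_univ i) h)]
  rw [Sigma.ι_π_eq_id_assoc]

/-- A tensor product with a finite sum. -/
theorem nonempty_tensE_sigma (G M : X.Modules) (n : ℕ) :
    Nonempty (CohB1.tensorMod G (∐ fun _ : Fin n => M) ≅ ∐ fun _ : Fin n => CohB1.tensorMod G M) := by
  haveI : PreservesColimitsOfSize.{0, 0} (tensE G) := (tensorHomAdj G).leftAdjoint_preservesColimits
  exact ⟨PreservesCoproduct.iso (tensE G) (fun _ : Fin n => M)⟩

/-- A tensor product of two products. -/
theorem nonempty_interchange (A B C D : X.Modules) :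
    Nonempty (CohB1.tensorMod (CohB1.tensorMod A B) (CohB1.tensorMod C D) ≅
      CohB1.tensorMod (CohB1.tensorMod A C) (CohB1.tensorMod B D)) :=
  ⟨DCat.TensorAssoc.assocIso A B (CohB1.tensorMod C D) ≪≫
    AmpleLib.tensorIso (Iso.refl A) ((DCat.TensorAssoc.assocIso B C D).symm ≪≫
      AmpleLib.tensorIso (AmpleLib.tensorComm B C) (Iso.refl D) ≪≫ DCat.TensorAssoc.assocIso C B D) ≪≫
    (DCat.TensorAssoc.assocIso A C (CohB1.tensorMod B D)).symm⟩

variable (k : Type u) [Field k] [X.Over (Spec (CommRingCat.of k))]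

include k

theorem hmap_hom_inv {M N : X.Modules} (e : M ≅ N) (q : ℕ) (x : Coh.HH X N q) :
    hmap k e.hom q (hmap k e.inv q x) = x := (hmapIso k e q).apply_symm_apply x

theorem hmap_inv_hom {M N : X.Modules} (e : M ≅ N) (q : ℕ) (x : Coh.HH X M q) :
    hmap k e.inv q (hmap k e.hom q x) = x := (hmapIso k e q).symm_apply_apply x

theorem hmap_sum {M N : X.Modules} {ι : Type} (s : Finset ι) (f : ι → (M ⟶ N)) (q : ℕ) :
    hmap k (∑ j ∈ s, f j) q = ∑ j ∈ s, hmap k (f j) q := by
  classical
  induction s using Finset.induction with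
  | empty => rw [Finset.sum_empty, Finset.sum_empty, hmap_zero]
  | insert a s ha ih => rw [Finset.sum_insert ha, Finset.sum_insert ha, hmap_add, ih]

theorem subsingleton_sigma {n : ℕ} (M : X.Modules) (q : ℕ) (h : Subsingleton (Coh.HH X M q)) :
    Subsingleton (Coh.HH X (∐ fun _ : Fin n => M) q) := by
  refine subsingleton_of_forall_eq 0 fun z => ?_
  have h1 := LinearMap.congr_fun (congrArg (fun f => hmap k f q) (sum_π_ι (n := n) M)) z
  rw [hmap_id, LinearMap.id_apply] at h1
  rw [← h1, hmap_sum, LinearMap.sum_apply]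
  refine Finset.sum_eq_zero fun j _ => ?_
  rw [hmap_comp, LinearMap.comp_apply, h.elim (hmap k (Sigma.π (fun _ : Fin n => M) j) q z) 0, map_zero]

/-- Cohomology of a finite sum. -/
def sigmaEquiv {n : ℕ} (M : X.Modules) (q : ℕ) :
    Coh.HH X (∐ fun _ : Fin n => M) q ≃ₗ[k] (Fin n → Coh.HH X M q) :=
  LinearEquiv.ofLinearMap (LinearMap.pi fun j => hmap k (Sigma.π (fun _ : Fin n => M) j) q)
    (∑ j, hmap k (Sigma.ι (fun _ : Fin n => M) j) q ∘ₗ LinearMap.proj j)
    (by
      refine LinearMap.ext fun v => funext fun i => ?_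
      simp only [LinearMap.comp_apply, LinearMap.sum_apply, LinearMap.pi_apply, map_sum, LinearMap.proj_apply,
        LinearMap.id_apply]
      rw [Finset.sum_eq_single i]
      · rw [← LinearMap.comp_apply, ← hmap_comp, Sigma.ι_π_eq_id, hmap_id]; rfl
      · intro j _ hj
        rw [← LinearMap.comp_apply, ← hmap_comp, Sigma.ι_π_of_ne _ hj, hmap_zero]; rfl
      · exact fun h => absurd (Finset.mem_univ i) h)
    (by
      refine LinearMap.ext fun z => ?_
      simp only [LinearMap.comp_apply, LinearMap.sum_apply, LinearMap.proj_apply, LinearMap.pi_apply, LinearMap.id_apply]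
      have h1 := LinearMap.congr_fun (congrArg (fun f => hmap k f q) (sum_π_ι (n := n) M)) z
      rw [hmap_id, LinearMap.id_apply, hmap_sum, LinearMap.sum_apply] at h1
      refine Eq.trans (Finset.sum_congr rfl fun j _ => ?_) h1
      rw [hmap_comp]; rfl)

theorem subsingleton_biprod (M N : X.Modules) (q : ℕ) (hM : Subsingleton (Coh.HH X M q))
    (hN : Subsingleton (Coh.HH X N q)) : Subsingleton (Coh.HH X (M ⊞ N) q) := by
  refine subsingleton_of_forall_eq 0 fun z => ?_
  have h1 := LinearMap.congr_fun (congrArg (fun f => hmap k f q) (biprod.total (X := M) (Y := N))) z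
  rw [hmap_id, LinearMap.id_apply, hmap_add, LinearMap.add_apply, hmap_comp, hmap_comp, LinearMap.comp_apply,
    LinearMap.comp_apply, hM.elim (hmap k biprod.fst q z) 0, hN.elim (hmap k biprod.snd q z) 0, map_zero, map_zero,
    add_zero] at h1
  exact h1.symm

/-- Cohomology of a sum of two. -/
def biprodEquiv (M N : X.Modules) (q : ℕ) :
    Coh.HH X (M ⊞ N) q ≃ₗ[k] (Coh.HH X M q × Coh.HH X N q) :=
  LinearEquiv.ofLinearMap ((hmap k biprod.fst q).prod (hmap k biprod.snd q))
    ((hmap k biprod.inl q).coprod (hmap k biprod.inr q))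
    (by
      refine LinearMap.ext fun v => ?_
      obtain ⟨a, b⟩ := v
      simp only [LinearMap.comp_apply, LinearMap.coprod_apply, LinearMap.prod_apply, Pi.prod, map_add,
        LinearMap.id_apply]
      refine Prod.ext ?_ ?_
      · show hmap k biprod.fst q (hmap k biprod.inl q a) + hmap k biprod.fst q (hmap k biprod.inr q b) = a
        rw [← LinearMap.comp_apply, ← LinearMap.comp_apply, ← hmap_comp, ← hmap_comp, biprod.inl_fst,
          biprod.inr_fst, hmap_id, hmap_zero, LinearMap.zero_apply, add_zero, LinearMap.id_apply]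
      · show hmap k biprod.snd q (hmap k biprod.inl q a) + hmap k biprod.snd q (hmap k biprod.inr q b) = b
        rw [← LinearMap.comp_apply, ← LinearMap.comp_apply, ← hmap_comp, ← hmap_comp, biprod.inl_snd,
          biprod.inr_snd, hmap_id, hmap_zero, LinearMap.zero_apply, zero_add, LinearMap.id_apply])
    (by
      refine LinearMap.ext fun z => ?_
      have h1 := LinearMap.congr_fun (congrArg (fun f => hmap k f q) (biprod.total (X := M) (Y := N))) z
      rw [hmap_id, LinearMap.id_apply, hmap_add, LinearMap.add_apply, hmap_comp, hmap_comp] at h1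
      exact h1)

/-- The sections are left exact. -/
theorem hmap_zero_injective {S : ShortComplex X.Modules} (hS : S.ShortExact) :
    Function.Injective (hmap k S.f 0) := fun a b hab => by
  rw [hmap_eq, hmap_eq] at hab
  have h := congrArg (hBE k S.X₂ 0) hab
  rw [hBE_natural, hBE_natural] at h
  exact (hBE k S.X₁ 0).injective (EulerLib.postA_zero_injective (baseHom k X) hS ⊤ h)

/-- Surjectivity on sections passes to sums. -/
theorem surjective_tensor_sigma {Q P G : X.Modules} (m : Q ⟶ P) {n : ℕ}
    (h : Function.Surjective (hmap k ((tensE G).map m) 0)) :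
    Function.Surjective (hmap k ((tensE (∐ fun _ : Fin n => G)).map m) 0) := by
  intro z
  let E := ∐ fun _ : Fin n => G
  choose w hw using fun j => h (hmap k (((DCoh.tensorBi (X := X)).map (Sigma.π (fun _ : Fin n => G) j)).app P) 0 z)
  refine ⟨∑ j, hmap k (((DCoh.tensorBi (X := X)).map (Sigma.ι (fun _ : Fin n => G) j)).app Q) 0 (w j), ?_⟩
  rw [map_sum]
  have h1 : ∀ j, hmap k ((tensE E).map m) 0 (hmap k (((DCoh.tensorBi (X := X)).map (Sigma.ι (fun _ : Fin n => G) j)).app Q) 0 (w j)) =
      hmap k (((DCoh.tensorBi (X := X)).map (Sigma.π (fun _ : Fin n => G) j ≫ Sigma.ι (fun _ : Fin n => G) j)).app P) 0 z := fun j => by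
    rw [← LinearMap.comp_apply, ← hmap_comp,
      ← ((DCoh.tensorBi (X := X)).map (Sigma.ι (fun _ : Fin n => G) j)).naturality m, hmap_comp, LinearMap.comp_apply, hw,
      ← LinearMap.comp_apply, ← hmap_comp, ← NatTrans.comp_app, ← Functor.map_comp]
  rw [Finset.sum_congr rfl fun j _ => h1 j]
  have h2 : ((DCoh.tensorBi (X := X)).map (∑ j, Sigma.π (fun _ : Fin n => G) j ≫ Sigma.ι (fun _ : Fin n => G) j)).app P =
      ∑ j, ((DCoh.tensorBi (X := X)).map (Sigma.π (fun _ : Fin n => G) j ≫ Sigma.ι (fun _ : Fin n => G) j)).app P := by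
    rw [Functor.map_sum]
    exact map_sum (NatTrans.appHom P) _ _
  rw [← LinearMap.sum_apply, ← hmap_sum, ← h2, sum_π_ι, CategoryTheory.Functor.map_id, NatTrans.id_app, hmap_id]
  rfl

/-- Surjectivity on sections propagates along maps surjective after tensoring with the target. -/
theorem surjective_of_square {Q P E G : X.Modules} (m : Q ⟶ P) (g : E ⟶ G)
    (hE : Function.Surjective (hmap k ((tensE E).map m) 0))
    (hg : Function.Surjective (hmap k ((tensE P).map g) 0)) :
    Function.Surjective (hmap k ((tensE G).map m) 0) := by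
  intro z
  obtain ⟨y, hy⟩ := hg (hmap k (AmpleLib.tensorComm G P).hom 0 z)
  obtain ⟨w, hw⟩ := hE (hmap k (AmpleLib.tensorComm E P).inv 0 y)
  refine ⟨hmap k (((DCoh.tensorBi (X := X)).map g).app Q) 0 w, ?_⟩
  have h1 : ((DCoh.tensorBi (X := X)).map g).app P =
      (AmpleLib.tensorComm E P).hom ≫ (tensE P).map g ≫ (AmpleLib.tensorComm G P).inv := by
    rw [← reassoc_of% comm_natural, Iso.hom_inv_id]
    exact (Category.comp_id _).symm
  rw [← LinearMap.comp_apply, ← hmap_comp, ← ((DCoh.tensorBi (X := X)).map g).naturality m, hmap_comp,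
    LinearMap.comp_apply, hw, h1, hmap_comp, hmap_comp, LinearMap.comp_apply, LinearMap.comp_apply]
  exact (congrArg (fun v => hmap k (AmpleLib.tensorComm G P).inv 0 (hmap k ((tensE P).map g) 0 v))
    (hmap_hom_inv k (AmpleLib.tensorComm E P) 0 y)).trans
    ((congrArg (hmap k (AmpleLib.tensorComm G P).inv 0) hy).trans (hmap_inv_hom k (AmpleLib.tensorComm G P) 0 z))

/-- Surjectivity transports along isomorphisms of the factor. -/
theorem surjective_tensor_iso {Q P E G : X.Modules} (m : Q ⟶ P) (e : E ≅ G)
    (hE : Function.Surjective (hmap k ((tensE E).map m) 0)) :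
    Function.Surjective (hmap k ((tensE G).map m) 0) := by
  refine surjective_of_square k m e.hom hE fun z => ⟨hmap k ((tensE P).map e.inv) 0 z, ?_⟩
  rw [← LinearMap.comp_apply, ← hmap_comp, ← Functor.map_comp, e.inv_hom_id, CategoryTheory.Functor.map_id, hmap_id]
  rfl

/-- The starting point. -/
theorem surjective_tensor_unit {Q P : X.Modules} (m : Q ⟶ P) (h : Function.Surjective (hmap k m 0)) :
    Function.Surjective (hmap k ((tensE (Coh.structureModule X)).map m) 0) := by
  intro z
  obtain ⟨w, hw⟩ := h (hmap k (unitTensorIso P).hom 0 z)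
  refine ⟨hmap k (unitTensorIso Q).inv 0 w, ?_⟩
  have h1 : (tensE (Coh.structureModule X)).map m =
      (unitTensorIso Q).hom ≫ m ≫ (unitTensorIso P).inv := by
    have := (unitTensENatIso (X := X)).hom.naturality m
    rw [← cancel_mono ((unitTensENatIso (X := X)).hom.app P)]
    refine this.trans ?_
    simp only [Category.assoc]
    show _ ≫ m = _ ≫ m ≫ (unitTensorIso P).inv ≫ (unitTensorIso P).hom
    rw [Iso.inv_hom_id]
    exact congrArg (_ ≫ ·) (Category.comp_id m).symm
  rw [h1, hmap_comp, hmap_comp, LinearMap.comp_apply, LinearMap.comp_apply]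
  exact (congrArg (fun v => hmap k (unitTensorIso P).inv 0 (hmap k m 0 v))
    (hmap_hom_inv k (unitTensorIso Q) 0 w)).trans
    ((congrArg (hmap k (unitTensorIso P).inv 0) hw).trans (hmap_inv_hom k (unitTensorIso P) 0 z))

end Groth.Agent.Quadric3
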