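import Groth.Agent.Quadric3.Basic
import Groth.Agent.CohEdge27.Product
import Groth.Agent.EulerPn5.Bott
import Groth.Agent.EulerPn5.SplitPull
import Groth.Agent.PnCanon5.Main
import Groth.Agent.KvbLam28.Basic
import Groth.Agent.DimLib.BaseChange
import Groth.Agent.DimLib.ProjDim
import Groth.Agent.CurveLib.ProjLine

/-!
# Cohomology of line bundles on `P¹ × P¹`
-/

set_option autoImplicit false
set_option backward.isDefEq.respectTransparency false
set_option backward.isDefEq.respectTransparency.types false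
set_option linter.style.haveILetI false
set_option maxHeartbeats 1000000

universe u

open CategoryTheory CategoryTheory.Limits AlgebraicGeometry TopologicalSpace Opposite
open Groth.Agent.Coherent Groth.Agent.PicLib Groth.Agent.AmpleLib Groth.Agent.SerreDual

noncomputable section

namespace Groth.Agent.Quadric3

section Generic

variable {k : Type u} [Field k] (A B : Over (Spec (CommRingCat.of k))) [IsProper A.hom] [IsProper B.hom]
  {Z : Scheme.{u}} (p : Z ⟶ A.left) (q : Z ⟶ B.left) (hpb : IsPullback p q A.hom B.hom)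

include hpb in
/-- `H^i(M ⊠ L) = 0` if `H^j(L) = 0` for `j ≤ i`. -/
theorem subsingleton_box_of_vanish (M : A.left.Modules) (L : B.left.Modules) (hM : PicF.IsInvertible M)
    (hL : PicF.IsInvertible L) (i : ℕ) (hj : ∀ j ≤ i, Subsingleton (Coh.HH B.left L j)) :
    Subsingleton (Coh.HH Z (CohB1.tensorMod ((Scheme.Modules.pullback p).obj M)
      ((Scheme.Modules.pullback q).obj L)) i) := by
  haveI := Coherent.hasInjectiveResolutions_modules B.left
  haveI := Coherent.hasInjectiveResolutions_modules Z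
  haveI : Coh.IsQCoh L := isQCoh_of_isInvertible hL
  haveI : IsProper p := MorphismProperty.of_isPullback hpb.flip inferInstance
  haveI : Flat A.hom := inferInstance
  haveI : IsNoetherian A.left := {
    LocallyOfFiniteType.isLocallyNoetherian A.hom, QuasiCompact.compactSpace_of_compactSpace A.hom with }
  set F := CohB1.tensorMod ((Scheme.Modules.pullback p).obj M) ((Scheme.Modules.pullback q).obj L)
  haveI : Coh.IsQCoh F := isQCoh_of_isInvertible
    (isInvertible_tensorMod (PicLoc.isInvertible_pullback p hM) (PicLoc.isInvertible_pullback q hL))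
  have hz : ∀ j ≤ i, IsZero ((Coh.Rpush p j).obj F) := by
    intro j hji
    obtain ⟨e⟩ := Groth.Agent.FlatBC14.nonempty_rpush_flat_base_change B.hom A.hom q p hpb.flip L j
    obtain ⟨e'⟩ := nonempty_projection_formula (f := p) (Coherent.isFinLocFree_of_invertible hM)
      ((Scheme.Modules.pullback q).obj L) j
    have hV := (CohEdge27.subsingleton_HH_iff_isZero B L j).1 (hj j hji)
    exact (CohEdge27.isZero_tensor_of_isZero M (((Functor.map_isZero _ hV).of_iso e.symm))).of_iso e'.symm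
  have hzero : ∀ j < i, IsZero ((Coh.RpushAb p j).obj (Coh.toAb F)) := fun j hji =>
    ((Functor.map_isZero (toAbFunctor A.left) (hz j hji.le))).of_iso (toAbRpushIso p F j).symm
  obtain ⟨φ⟩ := CohEdge27.nonempty_HH_equiv p F i hzero
  exact @Equiv.subsingleton _ _ φ.toEquiv (CohEdge27.subsingleton_of_isZero (hz i le_rfl) ⊤)

end Generic

variable (k : Type u) [Field k]

/-- `P¹`. -/
abbrev P1 : Scheme.{u} := CohB1.ProjSpace 1 k

/-- `P¹ × P¹`. -/
abbrev Q2 : Scheme.{u} := pullback (CohB1.ProjSpace.toSpec 1 k) (CohB1.ProjSpace.toSpec 1 k)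

/-- The structure map. -/
@[reducible] def overQ2 : (Q2 k).Over (Spec (CommRingCat.of k)) :=
  ⟨pullback.fst (CohB1.ProjSpace.toSpec 1 k) (CohB1.ProjSpace.toSpec 1 k) ≫ CohB1.ProjSpace.toSpec 1 k⟩

attribute [local instance] overQ2

instance isProperQ2 : IsProper (Q2 k ↘ Spec (CommRingCat.of k)) := by
  haveI := CurveLib.isProper_projSpace k 1
  exact inferInstanceAs (IsProper (pullback.fst (CohB1.ProjSpace.toSpec 1 k) (CohB1.ProjSpace.toSpec 1 k) ≫
    CohB1.ProjSpace.toSpec 1 k))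

/-- `O(a, b)`. -/
abbrev O2 (a b : ℤ) : (Q2 k).Modules :=
  CohB1.tensorMod
    ((Scheme.Modules.pullback (pullback.fst (CohB1.ProjSpace.toSpec 1 k) (CohB1.ProjSpace.toSpec 1 k))).obj
      (Twist.twistProjSpace 1 k a))
    ((Scheme.Modules.pullback (pullback.snd (CohB1.ProjSpace.toSpec 1 k) (CohB1.ProjSpace.toSpec 1 k))).obj
      (Twist.twistProjSpace 1 k b))

theorem isInvertible_O2 (a b : ℤ) : PicF.IsInvertible (O2 k a b) :=
  isInvertible_tensorMod (PicLoc.isInvertible_pullback _ (Coherent.isInvertible_twistProjSpaceZ 1 a k))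
    (PicLoc.isInvertible_pullback _ (Coherent.isInvertible_twistProjSpaceZ 1 b k))

theorem isFinLocFree_O2 (a b : ℤ) : FlatMod.IsFinLocFree (O2 k a b) :=
  SerreDual.isFinLocFree_of_invertible (isInvertible_O2 k a b)

theorem finite_O2 (a b : ℤ) (q : ℕ) : Module.Finite k (Coh.HH (Q2 k) (O2 k a b) q) :=
  CurveRR24.finite_HH_of_isCoh k (CohBC.isCoh_of_isFinLocFree (isFinLocFree_O2 k a b)) q

theorem subsingleton_P1 (d : ℤ) (j : ℕ) (h : (d = -1) ∨ (d < 0 ∧ j = 0)) :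
    Subsingleton (Coh.HH (P1 k) (Twist.twistProjSpace 1 k d) j) :=
  Coherent.subsingleton_HH_twist j (by rintro ⟨rfl, hd⟩; omega) (by rintro ⟨rfl, hd⟩; omega)

theorem dim_Q2 : topologicalKrullDim (Q2 k) ≤ 2 := by
  haveI := CurveLib.isProper_projSpace k 1
  refine DimLib.topologicalKrullDim_le_of_forall_maximal
    (pullback.fst (CohB1.ProjSpace.toSpec 1 k) (CohB1.ProjSpace.toSpec 1 k) ≫ CohB1.ProjSpace.toSpec 1 k) 2
    fun η _ => ?_
  have h := DimLib.ptDim_product_le (CohB1.ProjSpace.toSpec 1 k) (CohB1.ProjSpace.toSpec 1 k) η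
  have h1 : ∀ x : P1 k, DimLib.ptDim (CohB1.ProjSpace.toSpec 1 k) x ≤ 1 := fun x => by
    have := DimLib.ptDim_le_topologicalKrullDim (CohB1.ProjSpace.toSpec 1 k) x
    rw [DimLib.PN.topologicalKrullDim_projSpace 1 k] at this
    exact_mod_cast this
  have h2 := h1 (pullback.fst (CohB1.ProjSpace.toSpec 1 k) (CohB1.ProjSpace.toSpec 1 k) η)
  have h3 := h1 (pullback.snd (CohB1.ProjSpace.toSpec 1 k) (CohB1.ProjSpace.toSpec 1 k) η)
  exact_mod_cast (show _ ≤ 2 by omega)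

theorem vanish_of_three_le (M : (Q2 k).Modules) [Coh.IsQCoh M] (i : ℕ) (hi : 3 ≤ i) :
    Subsingleton (Coh.HH (Q2 k) M i) := by
  haveI := EulerLib.isNoetherian_of_proper k (X := Q2 k)
  haveI : (Q2 k).IsSeparated := EulerLib.isSeparated_of_proper (X := Q2 k) k
  exact EulerLib.subsingleton_HH_of_dim M (dim_Q2 k) hi

theorem vanish_right (a b : ℤ) (i : ℕ)
    (hj : ∀ j ≤ i, Subsingleton (Coh.HH (P1 k) (Twist.twistProjSpace 1 k b) j)) :
    Subsingleton (Coh.HH (Q2 k) (O2 k a b) i) := by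
  haveI := CurveLib.isProper_projSpace k 1
  haveI : IsProper (Over.mk (CohB1.ProjSpace.toSpec 1 k)).hom := ‹IsProper (CohB1.ProjSpace.toSpec 1 k)›
  exact subsingleton_box_of_vanish (Over.mk (CohB1.ProjSpace.toSpec 1 k)) (Over.mk (CohB1.ProjSpace.toSpec 1 k))
    (pullback.fst _ _) (pullback.snd _ _) (IsPullback.of_hasPullback _ _) _ _
    (Coherent.isInvertible_twistProjSpaceZ 1 a k) (Coherent.isInvertible_twistProjSpaceZ 1 b k) i hj

theorem vanish_left (a b : ℤ) (i : ℕ)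
    (hj : ∀ j ≤ i, Subsingleton (Coh.HH (P1 k) (Twist.twistProjSpace 1 k a) j)) :
    Subsingleton (Coh.HH (Q2 k) (O2 k a b) i) := by
  haveI := CurveLib.isProper_projSpace k 1
  haveI : IsProper (Over.mk (CohB1.ProjSpace.toSpec 1 k)).hom := ‹IsProper (CohB1.ProjSpace.toSpec 1 k)›
  haveI : Subsingleton (Coh.HH (Q2 k) (CohB1.tensorMod
      ((Scheme.Modules.pullback (pullback.snd (CohB1.ProjSpace.toSpec 1 k) (CohB1.ProjSpace.toSpec 1 k))).obj
        (Twist.twistProjSpace 1 k b))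
      ((Scheme.Modules.pullback (pullback.fst (CohB1.ProjSpace.toSpec 1 k) (CohB1.ProjSpace.toSpec 1 k))).obj
        (Twist.twistProjSpace 1 k a))) i) := subsingleton_box_of_vanish (Over.mk (CohB1.ProjSpace.toSpec 1 k)) (Over.mk (CohB1.ProjSpace.toSpec 1 k))
    (pullback.snd _ _) (pullback.fst _ _) (IsPullback.of_hasPullback _ _).flip _ _
    (Coherent.isInvertible_twistProjSpaceZ 1 b k) (Coherent.isInvertible_twistProjSpaceZ 1 a k) i hj
  exact subsingleton_HH_of_iso k (AmpleLib.tensorComm _ _) i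

theorem vanish_neg_one_left (b : ℤ) (i : ℕ) : Subsingleton (Coh.HH (Q2 k) (O2 k (-1) b) i) :=
  vanish_left k _ b i fun j _ => subsingleton_P1 k _ j (Or.inl rfl)

theorem vanish_neg_one_right (a : ℤ) (i : ℕ) : Subsingleton (Coh.HH (Q2 k) (O2 k a (-1)) i) :=
  vanish_right k a _ i fun j _ => subsingleton_P1 k _ j (Or.inl rfl)

theorem vanish_neg_zero (a b : ℤ) (h : a < 0 ∨ b < 0) : Subsingleton (Coh.HH (Q2 k) (O2 k a b) 0) := by
  rcases h with h | h
  · exact vanish_left k a b 0 fun j hj => subsingleton_P1 k a j (Or.inr ⟨h, Nat.le_zero.1 hj⟩)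
  · exact vanish_right k a b 0 fun j hj => subsingleton_P1 k b j (Or.inr ⟨h, Nat.le_zero.1 hj⟩)

theorem vanish_neg_one_deg (a b : ℤ) (ha : a < 0) (hb : b < 0) :
    Subsingleton (Coh.HH (Q2 k) (O2 k a b) 1) := by
  haveI := CurveLib.isProper_projSpace k 1
  haveI : IsProper (Over.mk (CohB1.ProjSpace.toSpec 1 k)).hom := ‹IsProper (CohB1.ProjSpace.toSpec 1 k)›
  exact CohEdge27.subsingleton_HH_boxtensor (Over.mk (CohB1.ProjSpace.toSpec 1 k))
    (Over.mk (CohB1.ProjSpace.toSpec 1 k)) _ _ (Coherent.isInvertible_twistProjSpaceZ 1 a k)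
    (Coherent.isInvertible_twistProjSpaceZ 1 b k) 1 (subsingleton_P1 k a 0 (Or.inr ⟨ha, rfl⟩))
    fun j hj => subsingleton_P1 k b j (Or.inr ⟨hb, by omega⟩)

theorem nonempty_add {a b c d a' b' : ℤ} (ha : a + c = a') (hb : b + d = b') :
    Nonempty (CohB1.tensorMod (O2 k a b) (O2 k c d) ≅ O2 k a' b') := by
  obtain ⟨i⟩ := nonempty_interchange
    ((Scheme.Modules.pullback (pullback.fst (CohB1.ProjSpace.toSpec 1 k) (CohB1.ProjSpace.toSpec 1 k))).obj
      (Twist.twistProjSpace 1 k a))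
    ((Scheme.Modules.pullback (pullback.snd (CohB1.ProjSpace.toSpec 1 k) (CohB1.ProjSpace.toSpec 1 k))).obj
      (Twist.twistProjSpace 1 k b))
    ((Scheme.Modules.pullback (pullback.fst (CohB1.ProjSpace.toSpec 1 k) (CohB1.ProjSpace.toSpec 1 k))).obj
      (Twist.twistProjSpace 1 k c))
    ((Scheme.Modules.pullback (pullback.snd (CohB1.ProjSpace.toSpec 1 k) (CohB1.ProjSpace.toSpec 1 k))).obj
      (Twist.twistProjSpace 1 k d))
  obtain ⟨s⟩ := EulerPn5.nonempty_tt (n := 1) (A := k) ha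
  obtain ⟨t⟩ := EulerPn5.nonempty_tt (n := 1) (A := k) hb
  exact ⟨i ≪≫ AmpleLib.tensorIso
    ((DCat.PullTensor.pullTensorIso (pullback.fst _ _) _ _).symm ≪≫ (Scheme.Modules.pullback _).mapIso s)
    ((DCat.PullTensor.pullTensorIso (pullback.snd _ _) _ _).symm ≪≫ (Scheme.Modules.pullback _).mapIso t)⟩

theorem nonempty_fst (c : ℤ) :
    Nonempty ((Scheme.Modules.pullback (pullback.fst (CohB1.ProjSpace.toSpec 1 k) (CohB1.ProjSpace.toSpec 1 k))).obj
      (Twist.twistProjSpace 1 k c) ≅ O2 k c 0) := by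
  obtain ⟨b⟩ := EulerPn5.nonempty_twist0 (n := 1) (A := k)
  obtain ⟨s⟩ := AmpleLib.exists_pullStructureIso (pullback.snd (CohB1.ProjSpace.toSpec 1 k) (CohB1.ProjSpace.toSpec 1 k))
  exact ⟨(AmpleLib.tensorIso (Iso.refl _) ((Scheme.Modules.pullback _).mapIso b ≪≫ s) ≪≫
    AmpleLib.tensorComm _ _ ≪≫ unitTensorIso _).symm⟩

theorem nonempty_snd (c : ℤ) :
    Nonempty ((Scheme.Modules.pullback (pullback.snd (CohB1.ProjSpace.toSpec 1 k) (CohB1.ProjSpace.toSpec 1 k))).obj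
      (Twist.twistProjSpace 1 k c) ≅ O2 k 0 c) := by
  obtain ⟨b⟩ := EulerPn5.nonempty_twist0 (n := 1) (A := k)
  obtain ⟨s⟩ := AmpleLib.exists_pullStructureIso (pullback.fst (CohB1.ProjSpace.toSpec 1 k) (CohB1.ProjSpace.toSpec 1 k))
  exact ⟨(AmpleLib.tensorIso ((Scheme.Modules.pullback _).mapIso b ≪≫ s) (Iso.refl _) ≪≫ unitTensorIso _).symm⟩

theorem nonempty_structure : Nonempty (O2 k 0 0 ≅ Coh.structureModule (Q2 k)) := by
  obtain ⟨e⟩ := nonempty_fst k 0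
  obtain ⟨b⟩ := EulerPn5.nonempty_twist0 (n := 1) (A := k)
  obtain ⟨s⟩ := AmpleLib.exists_pullStructureIso (pullback.fst (CohB1.ProjSpace.toSpec 1 k) (CohB1.ProjSpace.toSpec 1 k))
  exact ⟨e.symm ≪≫ (Scheme.Modules.pullback _).mapIso b ≪≫ s⟩

/-- The Euler sequence of `P¹`, pulled back and twisted. -/
theorem exists_seq_of (π : Q2 k ⟶ P1 k) (G : (Q2 k).Modules) (hG : FlatMod.IsFinLocFree G) :
    ∃ S : ShortComplex (Q2 k).Modules, S.ShortExact ∧
      Nonempty (S.X₁ ≅ CohB1.tensorMod G ((Scheme.Modules.pullback π).obj (Twist.twistProjSpace 1 k (-2)))) ∧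
      Nonempty (S.X₂ ≅ ∐ fun _ : Fin 2 =>
        CohB1.tensorMod G ((Scheme.Modules.pullback π).obj (Twist.twistProjSpace 1 k (-1)))) ∧
      Nonempty (S.X₃ ≅ G) := by
  haveI := CurveLib.isProper_projSpace k 1
  obtain ⟨f, g, w, hS⟩ := EulerPn5.exists_euler_seq 1 k
  obtain ⟨ω⟩ := Groth.Agent.PnCanon5.nonempty_topDiff_twist (k := k) (n := 1)
    (Groth.Agent.KvbLam28.isExtPow_one (Omega.sheaf (CohB1.ProjSpace.toSpec 1 k)))
  obtain ⟨e⟩ := EulerPn5.nonempty_mpow_fin (Twist.twistProjSpace 1 k (-1)) 2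
  obtain ⟨s⟩ := AmpleLib.exists_pullStructureIso π
  haveI : PreservesColimitsOfSize.{0, 0} (Scheme.Modules.pullback π) :=
    (Scheme.Modules.pullbackPushforwardAdjunction π).leftAdjoint_preservesColimits
  obtain ⟨c⟩ := nonempty_tensE_sigma G ((Scheme.Modules.pullback π).obj (Twist.twistProjSpace 1 k (-1))) 2
  refine ⟨((ShortComplex.mk f g w).map (Scheme.Modules.pullback π)).map (tensE G),
    exact_tensE_map hG (KPull28.shortExact_pullback π hS (CohBC.isFinLocFree_structureModule _)),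
    ⟨AmpleLib.tensorIso (Iso.refl G) ((Scheme.Modules.pullback π).mapIso ω)⟩, ⟨?_⟩, ⟨?_⟩⟩
  · exact AmpleLib.tensorIso (Iso.refl G) ((Scheme.Modules.pullback π).mapIso e ≪≫
      PreservesCoproduct.iso (Scheme.Modules.pullback π) (fun _ : Fin 2 => Twist.twistProjSpace 1 k (-1))) ≪≫ c
  · exact AmpleLib.tensorIso (Iso.refl G) s ≪≫ AmpleLib.tensorComm _ _ ≪≫ unitTensorIso _

/-- The data of a twisted Euler sequence. -/
def IsSeq (S : ShortComplex (Q2 k).Modules) (a₁ b₁ a₂ b₂ a₃ b₃ : ℤ) : Prop :=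
  S.ShortExact ∧ Nonempty (S.X₁ ≅ O2 k a₁ b₁) ∧ Nonempty (S.X₂ ≅ ∐ fun _ : Fin 2 => O2 k a₂ b₂) ∧
    Nonempty (S.X₃ ≅ O2 k a₃ b₃)

theorem exists_seq_fst (a b : ℤ) : ∃ S, IsSeq k S (a - 1) b a b (a + 1) b := by
  obtain ⟨S, hS, ⟨e₁⟩, ⟨e₂⟩, ⟨e₃⟩⟩ := exists_seq_of k
    (pullback.fst (CohB1.ProjSpace.toSpec 1 k) (CohB1.ProjSpace.toSpec 1 k)) (O2 k (a + 1) b) (isFinLocFree_O2 k _ _)
  obtain ⟨u⟩ := nonempty_fst k (-2)
  obtain ⟨v⟩ := nonempty_fst k (-1)
  obtain ⟨u'⟩ := nonempty_add k (show a + 1 + -2 = a - 1 by omega) (show b + 0 = b by omega)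
  obtain ⟨v'⟩ := nonempty_add k (show a + 1 + -1 = a by omega) (show b + 0 = b by omega)
  exact ⟨S, hS, ⟨e₁ ≪≫ AmpleLib.tensorIso (Iso.refl _) u ≪≫ u'⟩,
    ⟨e₂ ≪≫ Sigma.mapIso fun _ => AmpleLib.tensorIso (Iso.refl _) v ≪≫ v'⟩, ⟨e₃⟩⟩

theorem exists_seq_snd (a b : ℤ) : ∃ S, IsSeq k S a (b - 1) a b a (b + 1) := by
  obtain ⟨S, hS, ⟨e₁⟩, ⟨e₂⟩, ⟨e₃⟩⟩ := exists_seq_of k
    (pullback.snd (CohB1.ProjSpace.toSpec 1 k) (CohB1.ProjSpace.toSpec 1 k)) (O2 k a (b + 1)) (isFinLocFree_O2 k _ _)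
  obtain ⟨u⟩ := nonempty_snd k (-2)
  obtain ⟨v⟩ := nonempty_snd k (-1)
  obtain ⟨u'⟩ := nonempty_add k (show a + 0 = a by omega) (show b + 1 + -2 = b - 1 by omega)
  obtain ⟨v'⟩ := nonempty_add k (show a + 0 = a by omega) (show b + 1 + -1 = b by omega)
  exact ⟨S, hS, ⟨e₁ ≪≫ AmpleLib.tensorIso (Iso.refl _) u ≪≫ u'⟩,
    ⟨e₂ ≪≫ Sigma.mapIso fun _ => AmpleLib.tensorIso (Iso.refl _) v ≪≫ v'⟩, ⟨e₃⟩⟩

variable {k} in
theorem IsSeq.vanish {S : ShortComplex (Q2 k).Modules} {a₁ b₁ a₂ b₂ a₃ b₃ : ℤ}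
    (h : IsSeq k S a₁ b₁ a₂ b₂ a₃ b₃) (i : ℕ) (h₂ : Subsingleton (Coh.HH (Q2 k) (O2 k a₂ b₂) i))
    (h₁ : Subsingleton (Coh.HH (Q2 k) (O2 k a₁ b₁) (i + 1))) :
    Subsingleton (Coh.HH (Q2 k) (O2 k a₃ b₃) i) := by
  obtain ⟨hS, ⟨e₁⟩, ⟨e₂⟩, ⟨e₃⟩⟩ := h
  haveI := h₁
  haveI := subsingleton_sigma k (n := 2) (O2 k a₂ b₂) i h₂
  haveI := subsingleton_HH_of_iso k e₂ i
  haveI : Subsingleton (Coh.HH (Q2 k) S.X₃ i) :=
    (hmap_surjective_of_shortExact k hS i (subsingleton_HH_of_iso k e₁ (i + 1))).subsingleton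
  exact subsingleton_HH_of_iso k e₃.symm i

variable {k} in
theorem IsSeq.finrank {S : ShortComplex (Q2 k).Modules} {a₁ b₁ a₂ b₂ a₃ b₃ : ℤ}
    (h : IsSeq k S a₁ b₁ a₂ b₂ a₃ b₃) (h0 : Subsingleton (Coh.HH (Q2 k) (O2 k a₁ b₁) 0))
    (h1 : Subsingleton (Coh.HH (Q2 k) (O2 k a₁ b₁) 1)) :
    Module.finrank k (Coh.HH (Q2 k) (O2 k a₃ b₃) 0) = 2 * Module.finrank k (Coh.HH (Q2 k) (O2 k a₂ b₂) 0) := by
  obtain ⟨hS, ⟨e₁⟩, ⟨e₂⟩, ⟨e₃⟩⟩ := h
  haveI := h0
  haveI := h1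
  haveI := subsingleton_HH_of_iso k e₁ 0
  have hsurj := hmap_surjective_of_shortExact k hS 0 (subsingleton_HH_of_iso k e₁ 1)
  have hinj : Function.Injective (hmap k S.g 0) := (injective_iff_map_eq_zero _).2 fun x hx => by
    obtain ⟨y, rfl⟩ := (exact_hmap k hS 0 x).1 hx
    rw [Subsingleton.elim y 0, map_zero]
  haveI := finite_O2 k a₂ b₂ 0
  rw [← (hmapIso k e₃ 0).finrank_eq, ← (LinearEquiv.ofBijective _ ⟨hinj, hsurj⟩).finrank_eq,
    (hmapIso k e₂ 0).finrank_eq, (sigmaEquiv k (O2 k a₂ b₂) 0).finrank_eq, Module.finrank_pi_fintype]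
  simp

theorem vanish_axis_base (i : ℕ) (hi : 1 ≤ i) : Subsingleton (Coh.HH (Q2 k) (O2 k 0 0) i) := by
  obtain ⟨S, hS⟩ := exists_seq_fst k (-1) 0
  refine hS.vanish i (vanish_neg_one_left k 0 i) ?_
  obtain ⟨T, hT⟩ := exists_seq_snd k (-1 - 1) (-1)
  haveI : Coh.IsQCoh (O2 k (-1 - 1) (-1 - 1)) := isQCoh_of_isInvertible (isInvertible_O2 k _ _)
  exact hT.vanish (i + 1) (vanish_neg_one_right k _ _) (vanish_of_three_le k _ _ (by omega))

/-- No higher cohomology in bidegrees at least `(-1, -1)`. -/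
theorem vanish_higher (a b : ℤ) (ha : -1 ≤ a) (hb : -1 ≤ b) (i : ℕ) (hi : 1 ≤ i) :
    Subsingleton (Coh.HH (Q2 k) (O2 k a b) i) := by
  have col : ∀ n : ℕ, (∀ i, 1 ≤ i → Subsingleton (Coh.HH (Q2 k) (O2 k 0 ((n : ℤ) - 1)) i)) ∧
      (∀ i, 1 ≤ i → Subsingleton (Coh.HH (Q2 k) (O2 k 0 (n : ℤ)) i)) := by
    intro n
    induction n with
    | zero => exact ⟨fun i _ => vanish_neg_one_right k _ i, fun i hi => vanish_axis_base k i hi⟩
    | succ n ih =>
      refine ⟨fun i hi => ?_, fun i hi => ?_⟩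
      · rw [Nat.cast_succ, add_sub_cancel_right]; exact ih.2 i hi
      · obtain ⟨S, hS⟩ := exists_seq_snd k 0 (n : ℤ)
        rw [Nat.cast_succ]
        exact hS.vanish i (ih.2 i hi) (ih.1 (i + 1) (by omega))
  have row : ∀ (m : ℕ), (∀ i, 1 ≤ i → Subsingleton (Coh.HH (Q2 k) (O2 k ((m : ℤ) - 1) b) i)) ∧
      (∀ i, 1 ≤ i → Subsingleton (Coh.HH (Q2 k) (O2 k (m : ℤ) b) i)) := by
    intro m
    induction m with
    | zero =>
      refine ⟨fun i _ => vanish_neg_one_left k b i, fun i hi => ?_⟩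
      obtain ⟨n, rfl⟩ : ∃ n : ℕ, b = (n : ℤ) - 1 := ⟨(b + 1).toNat, by omega⟩
      exact (col n).1 i hi
    | succ m ih =>
      refine ⟨fun i hi => ?_, fun i hi => ?_⟩
      · rw [Nat.cast_succ, add_sub_cancel_right]; exact ih.2 i hi
      · obtain ⟨S, hS⟩ := exists_seq_fst k (m : ℤ) b
        rw [Nat.cast_succ]
        exact hS.vanish i (ih.2 i hi) (ih.1 (i + 1) (by omega))
  obtain ⟨m, rfl⟩ : ∃ m : ℕ, a = (m : ℤ) - 1 := ⟨(a + 1).toNat, by omega⟩
  exact (row m).1 i hi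

theorem finrank_one_zero :
    Module.finrank k (Coh.HH (Q2 k) (O2 k 1 0) 0) = 2 * Module.finrank k (Coh.HH (Q2 k) (O2 k 0 0) 0) := by
  obtain ⟨S, hS⟩ := exists_seq_fst k 0 0
  exact hS.finrank (vanish_neg_one_left k 0 0) (vanish_neg_one_left k 0 1)

theorem finrank_zero_one :
    Module.finrank k (Coh.HH (Q2 k) (O2 k 0 1) 0) = 2 * Module.finrank k (Coh.HH (Q2 k) (O2 k 0 0) 0) := by
  obtain ⟨S, hS⟩ := exists_seq_snd k 0 0
  exact hS.finrank (vanish_neg_one_right k 0 0) (vanish_neg_one_right k 0 1)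

theorem finrank_one_one :
    Module.finrank k (Coh.HH (Q2 k) (O2 k 1 1) 0) = 4 * Module.finrank k (Coh.HH (Q2 k) (O2 k 0 0) 0) := by
  obtain ⟨S, hS⟩ := exists_seq_fst k 0 1
  have h : Module.finrank k (Coh.HH (Q2 k) (O2 k 1 1) 0) = 2 * Module.finrank k (Coh.HH (Q2 k) (O2 k 0 1) 0) :=
    hS.finrank (vanish_neg_one_left k 1 0) (vanish_neg_one_left k 1 1)
  rw [h, finrank_zero_one]
  omega

variable {k} in
/-- One step of the propagation of surjectivity. -/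
theorem IsSeq.surjective {S : ShortComplex (Q2 k).Modules} {a₁ b₁ a₂ b₂ a₃ b₃ : ℤ}
    (h : IsSeq k S a₁ b₁ a₂ b₂ a₃ b₃) {Q P : (Q2 k).Modules} (m : Q ⟶ P) {r : ℕ}
    (e : P ≅ ∐ fun _ : Fin r => O2 k 1 1) (ha : -1 ≤ a₁ + 1) (hb : -1 ≤ b₁ + 1)
    (hm : Function.Surjective (hmap k ((tensE (O2 k a₂ b₂)).map m) 0)) :
    Function.Surjective (hmap k ((tensE (O2 k a₃ b₃)).map m) 0) := by
  obtain ⟨hS, ⟨e₁⟩, ⟨e₂⟩, ⟨e₃⟩⟩ := h
  have hPf : FlatMod.IsFinLocFree P :=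
    fun x => by
      obtain ⟨U, n, hx, ⟨φ⟩⟩ :=
        DCat.PerfTensor.isFinLocFree_sigma _ (fun _ : Fin r => isFinLocFree_O2 k 1 1) x
      exact ⟨U, n, hx, ⟨(Scheme.Modules.restrictFunctor U.ι).mapIso e ≪≫ φ⟩⟩
  refine surjective_tensor_iso k m e₃ ?_
  refine surjective_of_square k m S.g ?_ ?_
  · exact surjective_tensor_iso k m e₂.symm (surjective_tensor_sigma k m hm)
  · refine hmap_surjective_of_shortExact k (exact_tensE_map hPf hS) 0 ?_
    obtain ⟨c⟩ := nonempty_tensE_sigma (O2 k a₁ b₁) (O2 k 1 1) r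
    obtain ⟨d⟩ := nonempty_add k (show a₁ + 1 = a₁ + 1 from rfl) (show b₁ + 1 = b₁ + 1 from rfl)
    haveI := subsingleton_sigma k (n := r) (O2 k (a₁ + 1) (b₁ + 1)) 1 (vanish_higher k _ _ ha hb 1 le_rfl)
    exact subsingleton_HH_of_iso k (AmpleLib.tensorIso e e₁ ≪≫ AmpleLib.tensorComm _ _ ≪≫ c ≪≫
      Sigma.mapIso fun _ => d) (0 + 1)

/-- Surjectivity on sections persists in nonnegative bidegrees. -/
theorem surjective_twist {Q P : (Q2 k).Modules} (m : Q ⟶ P) {r : ℕ} (e : P ≅ ∐ fun _ : Fin r => O2 k 1 1)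
    (hm : Function.Surjective (hmap k m 0)) (a b : ℕ) :
    Function.Surjective (hmap k ((tensE (O2 k (a : ℤ) (b : ℤ))).map m) 0) := by
  have col : ∀ n : ℕ, Function.Surjective (hmap k ((tensE (O2 k 0 (n : ℤ))).map m) 0) := by
    intro n
    induction n with
    | zero =>
      obtain ⟨z⟩ := nonempty_structure k
      exact surjective_tensor_iso k m z.symm (surjective_tensor_unit k m hm)
    | succ n ih =>
      obtain ⟨S, hS⟩ := exists_seq_snd k 0 (n : ℤ)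
      rw [Nat.cast_succ]
      exact hS.surjective m e (by omega) (by omega) ih
  induction a with
  | zero => exact col b
  | succ a ih =>
    obtain ⟨S, hS⟩ := exists_seq_fst k (a : ℤ) (b : ℤ)
    rw [Nat.cast_succ]
    exact hS.surjective m e (by omega) (by omega) ih

end Groth.Agent.Quadric3
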