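import Groth.Agent.Quadric3.Box

/-!
# Tools for kernels and cokernels of maps of sums of line bundles on `P¹ × P¹`
-/

set_option autoImplicit false
set_option backward.isDefEq.respectTransparency false
set_option linter.style.haveILetI false
set_option maxHeartbeats 1000000

universe u

open CategoryTheory CategoryTheory.Limits AlgebraicGeometry TopologicalSpace Opposite
open Groth.Agent.Coherent Groth.Agent.PicLib Groth.Agent.AmpleLib Groth.Agent.SerreDual

noncomputable section

namespace Groth.Agent.Quadric3

variable {X : Scheme.{u}} (k : Type u) [Field k] [X.Over (Spec (CommRingCat.of k))]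

include k

/-- Cohomology of a kernel between a surjection and a vanishing group. -/
theorem subsingleton_first {S : ShortComplex X.Modules} (hS : S.ShortExact) (q : ℕ)
    (hg : Function.Surjective (hmap k S.g q)) (h2 : Subsingleton (Coh.HH X S.X₂ (q + 1))) :
    Subsingleton (Coh.HH X S.X₁ (q + 1)) := by
  refine subsingleton_of_forall_eq 0 fun x => (hBE k S.X₁ (q + 1)).map_eq_zero_iff.1 ?_
  haveI : Subsingleton (Coherent.HA (baseHom k X) S.X₂ (⊤ : X.Opens) (q + 1)) :=
    (hBE k S.X₂ (q + 1)).symm.toEquiv.subsingleton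
  obtain ⟨y, hy⟩ := (Coherent.exact_deltaA_postA (baseHom k X) hS ⊤ q (hBE k S.X₁ (q + 1) x)).1 (Subsingleton.elim _ _)
  obtain ⟨w, hw⟩ := hg ((hBE k S.X₃ q).symm y)
  have hyw : Coherent.postA (baseHom k X) S.g ⊤ q (hBE k S.X₂ q w) = y := by
    refine (hBE_natural k S.g q w).symm.trans ?_
    rw [← hmap_eq k S.g q w, hw, LinearEquiv.apply_symm_apply]
  rw [← hy, ← hyw]
  exact (Coherent.exact_postA_deltaA (baseHom k X) hS ⊤ q).apply_apply_eq_zero _

theorem subsingleton_map_biprod (F : X.Modules ⥤ X.Modules) [F.Additive] (M N : X.Modules) (q : ℕ)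
    (hM : Subsingleton (Coh.HH X (F.obj M) q)) (hN : Subsingleton (Coh.HH X (F.obj N) q)) :
    Subsingleton (Coh.HH X (F.obj (M ⊞ N)) q) := by
  refine subsingleton_of_forall_eq 0 fun z => ?_
  have h1 := LinearMap.congr_fun (congrArg (fun f => hmap k (F.map f) q) (biprod.total (X := M) (Y := N))) z
  rw [CategoryTheory.Functor.map_id, hmap_id, LinearMap.id_apply, F.map_add, hmap_add, LinearMap.add_apply,
    F.map_comp, F.map_comp, hmap_comp, hmap_comp, LinearMap.comp_apply, LinearMap.comp_apply,
    hM.elim (hmap k (F.map biprod.fst) q z) 0, hN.elim (hmap k (F.map biprod.snd) q z) 0, map_zero, map_zero,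
    add_zero] at h1
  exact h1.symm

end Groth.Agent.Quadric3
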